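import Mathlib
import Cfsg.Agent.AutPSL.Centralizer

/-!
Bounds for the order of the image of `GL_n(q)` elements in `PGL_n(q)` under symmetry conditions.
-/

set_option autoImplicit false

namespace Cfsg.Agent.AutPSLOrder

open Matrix Polynomial Cfsg.Agent.AutPSL

universe u

variable {n : ℕ} {F : Type u} [Field F] [Fintype F]

theorem eq_of_smul_pow_eq (hn : 2 ≤ n) {h : GL (Fin n) F} {i j : ℕ}
    (hi : i < orderOf (pgl n F h)) (hj : j < orderOf (pgl n F h)) {c c' : Fˣ}
    (he : (c : F) • ((h : Matrix (Fin n) (Fin n) F) ^ i) = (c' : F) • ((h : Matrix (Fin n) (Fin n) F) ^ j)) :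
    i = j ∧ c = c' := by
  haveI : NeZero n := ⟨by omega⟩
  have h1 : h ^ i * scalarGL _ c = h ^ j * scalarGL _ c' := Units.ext (by
    rw [Units.val_mul, Units.val_mul, scalarGL_coe, scalarGL_coe, Matrix.mul_smul, Matrix.mul_smul,
      mul_one, mul_one, Units.val_pow_eq_pow_val, Units.val_pow_eq_pow_val, he])
  have h2 : (pgl n F h) ^ i = (pgl n F h) ^ j := by
    have := congrArg (pgl n F) h1
    rw [map_mul, map_mul, pgl_scalar, pgl_scalar, mul_one, mul_one, map_pow, map_pow] at this
    exact this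
  have hij : i = j := pow_injOn_Iio_orderOf hi hj h2
  subst hij
  exact ⟨rfl, scalarGL_injective (mul_left_cancel h1)⟩

/-- An annihilating polynomial with coefficients fixed by `σ` bounds the projective order. -/
theorem proj_bound (hn : 2 ≤ n) (σ : F ≃+* F) (h : GL (Fin n) F) {P : F[X]} (hP : P.Monic)
    (hσ : ∀ i, σ (P.coeff i) = P.coeff i) (hroot : aeval (h : Matrix (Fin n) (Fin n) F) P = 0) :
    (Nat.card {x : F // σ x = x} - 1) * orderOf (pgl n F h) ≤
      Nat.card {x : F // σ x = x} ^ P.natDegree - 1 := by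
  classical
  haveI : NeZero n := ⟨by omega⟩
  let L : Subfield F := (σ.toRingHom).eqLocusField (RingHom.id F)
  have hL : Nat.card L = Nat.card {x : F // σ x = x} := rfl
  rw [← hL]
  haveI : Fintype L := Fintype.ofFinite L
  obtain ⟨P0, hP0map, hP0deg, hP0⟩ := Polynomial.lifts_and_degree_eq_and_monic
    (f := L.subtype) (p := P) ((Polynomial.lifts_iff_coeff_lifts P).mpr fun i => ⟨⟨P.coeff i, hσ i⟩, rfl⟩) hP
  have hdeg : P0.natDegree = P.natDegree := natDegree_eq_of_degree_eq hP0deg
  let N := orderOf (pgl n F h)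
  let R : Lˣ × Fin N → L[X] := fun p => (C (p.1 : L) * X ^ (p.2 : ℕ)) %ₘ P0
  let ev : L[X] → Matrix (Fin n) (Fin n) F := fun f => aeval (h : Matrix (Fin n) (Fin n) F) (f.map L.subtype)
  have hRev : ∀ p, ev (R p) = ((p.1 : L) : F) • (h : Matrix (Fin n) (Fin n) F) ^ (p.2 : ℕ) := by
    intro p
    simp only [ev, R]
    rw [Polynomial.map_modByMonic _ hP0, hP0map, aeval_modByMonic_eq_self_of_root hroot,
      Polynomial.map_mul, Polynomial.map_C, Polynomial.map_pow, Polynomial.map_X, map_mul, aeval_C, map_pow,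
      aeval_X, ← Algebra.smul_def]
    rfl
  have hne : ∀ p, R p ≠ 0 := by
    intro p hp
    have := hRev p
    rw [hp] at this
    simp only [ev, Polynomial.map_zero, map_zero] at this
    have hu : IsUnit ((h : Matrix (Fin n) (Fin n) F) ^ (p.2 : ℕ)) := h.isUnit.pow _
    rcases smul_eq_zero.mp this.symm with h0 | h0
    · exact p.1.ne_zero (Subtype.ext h0)
    · exact hu.ne_zero h0
  have hlt : ∀ p, (R p).degree < P0.natDegree := fun p => by
    rw [← degree_eq_natDegree hP0.ne_zero]
    exact degree_modByMonic_lt _ hP0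
  let Φ : Lˣ × Fin N → {f : Fin P0.natDegree → L // f ≠ 0} := fun p =>
    ⟨fun i => (R p).coeff i, fun h0 => hne p (Polynomial.ext fun i => by
      rcases Nat.lt_or_ge i P0.natDegree with hi | hi
      · exact (congrFun h0 ⟨i, hi⟩).trans (coeff_zero i).symm
      · rw [coeff_zero]; exact coeff_eq_zero_of_degree_lt ((hlt p).trans_le (by exact_mod_cast hi)))⟩
  have hΦ : Function.Injective Φ := by
    intro p p' hpp
    have hR : R p = R p' := Polynomial.ext fun i => by
      rcases Nat.lt_or_ge i P0.natDegree with hi | hi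
      · exact congrFun (congrArg Subtype.val hpp) ⟨i, hi⟩
      · rw [coeff_eq_zero_of_degree_lt ((hlt p).trans_le (by exact_mod_cast hi)),
          coeff_eq_zero_of_degree_lt ((hlt p').trans_le (by exact_mod_cast hi))]
    have he : ((p.1 : L) : F) • (h : Matrix (Fin n) (Fin n) F) ^ (p.2 : ℕ) =
        ((p'.1 : L) : F) • (h : Matrix (Fin n) (Fin n) F) ^ (p'.2 : ℕ) := by
      rw [← hRev, ← hRev, hR]
    obtain ⟨h1, h2⟩ := eq_of_smul_pow_eq hn p.2.2 p'.2.2 (c := Units.map L.subtype.toMonoidHom p.1)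
      (c' := Units.map L.subtype.toMonoidHom p'.1) he
    exact Prod.ext (Units.map_injective (Subtype.val_injective) h2) (Fin.ext h1)
  have h1 := Nat.card_le_card_of_injective Φ hΦ
  rw [Nat.card_prod, Nat.card_fin, Nat.card_units] at h1
  have h2 : Nat.card {f : Fin P0.natDegree → L // f ≠ 0} = Nat.card L ^ P0.natDegree - 1 := by
    rw [Nat.card_eq_fintype_card, Fintype.card_subtype_compl, Fintype.card_subtype_eq, Fintype.card_fun,
      Fintype.card_fin, Nat.card_eq_fintype_card]
  rwa [h2, hdeg] at h1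

/-- Commuting with a semilinear map forces the characteristic polynomial down to the fixed field. -/
theorem charpoly_fixed (σ : F ≃+* F) (g h : GL (Fin n) F) (hrel : g * fieldMap σ h * g⁻¹ = h) (i : ℕ) :
    σ ((h : Matrix (Fin n) (Fin n) F).charpoly.coeff i) = (h : Matrix (Fin n) (Fin n) F).charpoly.coeff i := by
  have h1 : (h : Matrix (Fin n) (Fin n) F).charpoly =
      ((h : Matrix (Fin n) (Fin n) F).map σ.toRingHom).charpoly := by
    conv_lhs => rw [← hrel]
    rw [Units.val_mul, Units.val_mul, Matrix.coe_units_inv, Matrix.charpoly_units_conj]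
    rfl
  conv_rhs => rw [h1, Matrix.charpoly_map, coeff_map]
  rfl

theorem semi_bound (hn : 2 ≤ n) (σ : F ≃+* F) (g h : GL (Fin n) F) (hrel : g * fieldMap σ h * g⁻¹ = h) :
    (Nat.card {x : F // σ x = x} - 1) * orderOf (pgl n F h) ≤ Nat.card {x : F // σ x = x} ^ n - 1 := by
  have := proj_bound hn σ h (Matrix.charpoly_monic (h : Matrix (Fin n) (Fin n) F))
    (charpoly_fixed σ g h hrel) (Matrix.aeval_self_charpoly _)
  rwa [Matrix.charpoly_natDegree_eq_dim, Fintype.card_fin] at this

theorem card_linear_preimage {V W : Type*} [AddCommGroup V] [Module F V] [AddCommGroup W] [Module F W]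
    [Finite V] [Finite W] (φ : V →ₗ[F] W) (hφ : Function.Surjective φ) (p : W → Prop) :
    Nat.card {v : V // p (φ v)} * Nat.card W = Nat.card V * Nat.card {w : W // p w} := by
  obtain ⟨s, hs⟩ := φ.exists_rightInverse_of_surjective (LinearMap.range_eq_top.mpr hφ)
  have hs' : ∀ w, φ (s w) = w := fun w => LinearMap.congr_fun hs w
  let e : V ≃ LinearMap.ker φ × W :=
    { toFun := fun v => (⟨v - s (φ v), by rw [LinearMap.mem_ker, map_sub, hs', sub_self]⟩, φ v)
      invFun := fun q => q.1.1 + s q.2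
      left_inv := fun v => by simp
      right_inv := fun q => by
        have h0 : φ q.1.1 = 0 := q.1.2
        refine Prod.ext (Subtype.ext ?_) ?_ <;> simp [h0, hs'] }
  let e' : {v : V // p (φ v)} ≃ LinearMap.ker φ × {w : W // p w} :=
    { toFun := fun v => ((e v.1).1, ⟨φ v.1, v.2⟩)
      invFun := fun q => ⟨q.1.1 + s q.2.1, by
        have h0 : φ q.1.1 = 0 := q.1.2
        rw [map_add, h0, hs', zero_add]; exact q.2.2⟩
      left_inv := fun v => Subtype.ext (e.left_inv v.1)
      right_inv := fun q => by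
        have h := e.right_inv (q.1, q.2.1)
        exact Prod.ext (congrArg Prod.fst h :) (Subtype.ext (congrArg Prod.snd h :)) }
  rw [Nat.card_congr e, Nat.card_congr e', Nat.card_prod, Nat.card_prod]
  ring

/-- `σ`-transpose twisted by `g`. -/
def tw (σ : F ≃+* F) (g : GL (Fin n) F) (M : Matrix (Fin n) (Fin n) F) : Matrix (Fin n) (Fin n) F :=
  (g : Matrix (Fin n) (Fin n) F) * Mᵀ.map σ * ((g⁻¹ : GL (Fin n) F) : Matrix (Fin n) (Fin n) F)

omit [Fintype F] in
theorem tw_add (σ : F ≃+* F) (g : GL (Fin n) F) (M N : Matrix (Fin n) (Fin n) F) :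
    tw σ g (M + N) = tw σ g M + tw σ g N := by
  rw [tw, tw, tw, Matrix.transpose_add, Matrix.map_add _ (fun a b => map_add σ a b), Matrix.mul_add,
    Matrix.add_mul]

omit [Fintype F] in
theorem tw_smul (σ : F ≃+* F) (g : GL (Fin n) F) (c : F) (M : Matrix (Fin n) (Fin n) F) :
    tw σ g (c • M) = σ c • tw σ g M := by
  rw [tw, tw, Matrix.transpose_smul, show (c • Mᵀ).map σ = σ c • Mᵀ.map σ by ext i j; simp,
    Matrix.mul_smul, Matrix.smul_mul]

omit [Fintype F] in
theorem tw_pow (σ : F ≃+* F) (g : GL (Fin n) F) (M : Matrix (Fin n) (Fin n) F) (i : ℕ) :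
    tw σ g (M ^ i) = tw σ g M ^ i := by
  have : (Mᵀ ^ i).map σ = (Mᵀ.map σ) ^ i := map_pow σ.toRingHom.mapMatrix Mᵀ i
  rw [tw, tw, Matrix.transpose_pow, this, Units.conj_pow]

/-- The crucial bound for graph automorphisms. -/
theorem graph_bound (hn : 3 ≤ n) (h32 : ¬ (n = 3 ∧ Fintype.card F = 2)) (σ : F ≃+* F)
    (g h : GL (Fin n) F) (hrel : g * fieldMap σ (itGL h) * g⁻¹ = h) :
    2 * ((Fintype.card F - 1) * orderOf (pgl n F h)) ≤ Fintype.card F ^ n - 1 := by
  classical
  haveI : NeZero n := ⟨by omega⟩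
  set q := Fintype.card F with hqdef
  have hq : 2 ≤ q := Fintype.one_lt_card
  set N := orderOf (pgl n F h)
  set H : Matrix (Fin n) (Fin n) F := (h : Matrix (Fin n) (Fin n) F)
  have hone : Nat.card {x : F // (1 : F ≃+* F) x = x} = q := by
    exact (Nat.card_congr (Equiv.subtypeUnivEquiv fun x => rfl)).trans Nat.card_eq_fintype_card
  by_cases hsmall : ∃ P : F[X], P ≠ 0 ∧ P.natDegree < n ∧ aeval H P = 0
  · obtain ⟨P, hP0, hPd, hPr⟩ := hsmall
    have h1 := proj_bound (by omega) 1 h (Polynomial.monic_mul_leadingCoeff_inv hP0) (fun _ => rfl)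
      (by rw [map_mul, hPr, zero_mul])
    rw [hone, natDegree_mul_leadingCoeff_inv _ hP0] at h1
    have h2 : q ^ P.natDegree ≤ q ^ (n - 1) := Nat.pow_le_pow_right (by omega) (by omega)
    have h3 : q ^ (n - 1) * 2 ≤ q ^ n := by
      conv_rhs => rw [show n = n - 1 + 1 by omega, pow_succ]
      exact Nat.mul_le_mul_left _ hq
    have h4 : 1 ≤ q ^ P.natDegree := Nat.one_le_pow _ _ (by omega)
    generalize (q - 1) * N = X at *
    omega
  push Not at hsmall
  let lc : (Fin n → F) → Matrix (Fin n) (Fin n) F := fun f => ∑ i : Fin n, f i • H ^ (i : ℕ)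
  let pol : (Fin n → F) → F[X] := fun f => ∑ i : Fin n, C (f i) * X ^ (i : ℕ)
  have hlcpol : ∀ f, aeval H (pol f) = lc f := fun f => by
    simp only [pol, lc, map_sum, map_mul, aeval_C, map_pow, aeval_X, ← Algebra.smul_def]
  have hinj : Function.Injective lc := by
    intro f f' hff
    have hzero : pol f - pol f' = 0 := by
      by_contra hne
      refine hsmall _ hne ?_ (by rw [map_sub, hlcpol, hlcpol, hff, sub_self])
      have hl : ∀ g : Fin n → F, (pol g).degree < n := fun g => degree_sum_fin_lt g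
      exact (natDegree_lt_iff_degree_lt hne).mpr
        ((degree_sub_le _ _).trans_lt (max_lt (hl f) (hl f')))
    funext i
    have := congrArg (fun p : F[X] => p.coeff i) (sub_eq_zero.mp hzero)
    simpa [pol, finsetSum_coeff, coeff_C_mul, coeff_X_pow, Fin.val_inj] using this
  have hlt : ∀ i, ∃ f, lc f = H ^ i := fun i => by
    refine ⟨fun j => (X ^ i %ₘ H.charpoly).coeff j, ?_⟩
    rw [← hlcpol]
    have hd : (X ^ i %ₘ H.charpoly).natDegree < n := by
      have := natDegree_modByMonic_lt (X ^ i) (Matrix.charpoly_monic H) (fun h1 => by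
        have := congrArg natDegree h1
        rw [Matrix.charpoly_natDegree_eq_dim, natDegree_one, Fintype.card_fin] at this
        omega)
      rwa [Matrix.charpoly_natDegree_eq_dim, Fintype.card_fin] at this
    have he : pol (fun j => (X ^ i %ₘ H.charpoly).coeff j) = X ^ i %ₘ H.charpoly := by
      conv_rhs => rw [(X ^ i %ₘ H.charpoly).as_sum_range' n hd, ← Fin.sum_univ_eq_sum_range]
      simp only [pol, C_mul_X_pow_eq_monomial]
    rw [he, aeval_modByMonic_eq_self_of_root (Matrix.aeval_self_charpoly H), map_pow, aeval_X]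
  choose co hco using hlt
  let Φ : Fˣ × Fin N → (Fin n → F) := fun p => (p.1 : F) • co p.2
  have hlcΦ : ∀ p, lc (Φ p) = (p.1 : F) • H ^ (p.2 : ℕ) := fun p => by
    rw [← hco p.2]; simp [lc, Φ, Finset.smul_sum, mul_smul]
  have hΦ : Function.Injective Φ := fun p p' hpp => by
    have he := congrArg lc hpp
    rw [hlcΦ, hlcΦ] at he
    obtain ⟨h1, h2⟩ := eq_of_smul_pow_eq (by omega) p.2.2 p'.2.2 he
    exact Prod.ext h2 (Fin.ext h1)
  have hcardΦ : Nat.card (Fˣ × Fin N) = (q - 1) * N := by
    rw [Nat.card_prod, Nat.card_fin, Nat.card_units, Nat.card_eq_fintype_card]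
  have htwH : tw σ g H * H = 1 := by
    have h1 : g * fieldMap σ (itGL h)⁻¹ * g⁻¹ = h⁻¹ := by
      conv_rhs => rw [← hrel]
      rw [map_inv]
      group
    have h2 : ((g * fieldMap σ (itGL h)⁻¹ * g⁻¹ : GL (Fin n) F) : Matrix (Fin n) (Fin n) F) = tw σ g H := by
      rw [Units.val_mul, Units.val_mul, fieldMap_coe, ← map_inv, itGL_coe, inv_inv]
      rfl
    rw [← h2, h1]
    exact h.inv_mul
  have htw1 : tw σ g 1 = 1 := by rw [tw, Matrix.transpose_one, Matrix.map_one _ (map_zero σ) (map_one σ),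
    mul_one, Units.mul_inv]
  by_cases hA : ∃ c : Fˣ, (H + (c : F) • 1).det ≠ 0
  · obtain ⟨c, hc⟩ := hA
    set a := H + (c : F) • 1 with ha
    have hnot : ∀ (l : F) (i : ℕ), a ≠ l • H ^ i := by
      intro l i hai
      set s := σ l * l
      have h1 : tw σ g a * a = s • (1 : Matrix (Fin n) (Fin n) F) := by
        rw [hai, tw_smul, tw_pow, Matrix.smul_mul, Matrix.mul_smul, smul_smul,
          ← (show Commute (tw σ g H) H from htwH.trans (mul_eq_one_comm.mp htwH).symm).mul_pow, htwH, one_pow]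
      have h2 : tw σ g a * a = (tw σ g H + σ (c : F) • 1) * a := by
        conv_lhs => rw [ha, tw_add, tw_smul, htw1]
      have h3 : a + σ (c : F) • (H * a) - s • H = 0 := by
        have h4 : H * (tw σ g a * a) = H * (s • (1 : Matrix (Fin n) (Fin n) F)) := by rw [h1]
        rw [h2, add_mul, mul_add, ← mul_assoc H, mul_eq_one_comm.mp htwH, one_mul, Matrix.smul_mul, one_mul,
          Matrix.mul_smul, Matrix.mul_smul, mul_one] at h4
        rw [h4, sub_self]
      let P : F[X] := C (σ (c : F)) * X ^ 2 + C (1 + σ (c : F) * c - s) * X + C (c : F)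
      refine hsmall P (fun hP => ?_) ?_ ?_
      · have := congrArg (fun p : F[X] => p.coeff 0) hP
        simp [P] at this
      · exact lt_of_le_of_lt (natDegree_quadratic_le) (by omega)
      · rw [← h3, ha]
        simp only [P, map_add, map_mul, aeval_C, map_pow, aeval_X, Algebra.algebraMap_eq_smul_one]
        simp only [smul_mul_assoc, one_mul, sub_smul, add_smul, one_smul, mul_add, Matrix.mul_smul, mul_one,
          smul_add, smul_smul, sq, add_mul, sub_mul]
        abel
    let Ψ : Fˣ × Fin N → Matrix (Fin n) (Fin n) F := fun p => a * ((p.1 : F) • H ^ (p.2 : ℕ))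
    have haU : IsUnit a := (Matrix.isUnit_iff_isUnit_det a).mpr (isUnit_iff_ne_zero.mpr hc)
    have hΨlc : ∀ p, ∃ f, lc f = Ψ p := fun p => by
      refine ⟨(p.1 : F) • co (p.2 + 1) + ((p.1 : F) * c) • co p.2, ?_⟩
      have : lc ((p.1 : F) • co (p.2 + 1) + ((p.1 : F) * c) • co p.2) =
          (p.1 : F) • H ^ ((p.2 : ℕ) + 1) + ((p.1 : F) * c) • H ^ (p.2 : ℕ) := by
        rw [← hco p.2, ← hco (p.2 + 1)]
        simp [lc, Finset.smul_sum, mul_smul, add_smul, Finset.sum_add_distrib]
      rw [this]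
      simp only [Ψ, ha, add_mul, Matrix.mul_smul, Matrix.smul_mul, one_mul, smul_smul, pow_succ']
    choose Ψ' hΨ' using hΨlc
    let Θ : (Fˣ × Fin N) ⊕ (Fˣ × Fin N) → {f : Fin n → F // f ≠ 0} := Sum.elim
      (fun p => ⟨Φ p, fun h0 => by
        have h1 := congrArg lc h0
        rw [hlcΦ, show lc 0 = 0 by simp [lc]] at h1
        rcases smul_eq_zero.mp h1 with h2 | h2
        · exact p.1.ne_zero h2
        · exact (h.isUnit.pow _).ne_zero h2⟩)
      (fun p => ⟨Ψ' p, fun h0 => by
        have h1 := congrArg lc h0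
        rw [hΨ', show lc 0 = 0 by simp [lc]] at h1
        have h2 : (p.1 : F) • H ^ (p.2 : ℕ) = 0 := haU.mul_left_cancel (h1.trans (mul_zero a).symm)
        rcases smul_eq_zero.mp h2 with h3 | h3
        · exact p.1.ne_zero h3
        · exact (h.isUnit.pow _).ne_zero h3⟩)
    have hcross : ∀ p p' : Fˣ × Fin N, Φ p ≠ Ψ' p' := by
      intro p p' he
      have h1 := congrArg lc he
      rw [hlcΦ, hΨ'] at h1
      -- `a` would be a multiple of a power of `h`
      obtain ⟨k, hk⟩ : ∃ k : ℕ, ((h ^ (p'.2 : ℕ))⁻¹ : GL (Fin n) F) = h ^ k :=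
        (mem_powers_iff_mem_zpowers (G := GL (Fin n) F)).mpr
          ((Subgroup.zpowers h).inv_mem (pow_mem (Subgroup.mem_zpowers h) _)) |>.imp fun _ hk => hk.symm
      have hinv : H ^ (p'.2 : ℕ) * H ^ k = 1 := by
        have h5 : h ^ (p'.2 : ℕ) * h ^ k = 1 := by rw [← hk, mul_inv_cancel]
        have := congrArg Units.val h5
        simpa using this
      refine hnot ((p'.1 : F)⁻¹ * p.1) ((p.2 : ℕ) + k) ?_
      have h2 := congrArg (fun M => (p'.1 : F)⁻¹ • (M * H ^ k)) h1
      simp only [Ψ, Matrix.mul_smul, Matrix.smul_mul, mul_assoc, hinv, mul_one, smul_smul] at h2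
      rw [inv_mul_cancel₀ p'.1.ne_zero, one_smul] at h2
      rw [← h2, pow_add]
    have hΘ : Function.Injective Θ := by
      rintro (p | p) (p' | p') he
      · exact congrArg Sum.inl (hΦ (congrArg Subtype.val he))
      · exact absurd (congrArg Subtype.val he) (hcross p p')
      · exact absurd (congrArg Subtype.val he).symm (hcross p' p)
      · refine congrArg Sum.inr ?_
        have h0 : Ψ' p = Ψ' p' := congrArg Subtype.val he
        have h1 := congrArg lc h0
        rw [hΨ', hΨ'] at h1
        obtain ⟨h2, h3⟩ := eq_of_smul_pow_eq (by omega) p.2.2 p'.2.2 (haU.mul_left_cancel h1)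
        exact Prod.ext h3 (Fin.ext h2)
    have h1 := Nat.card_le_card_of_injective Θ hΘ
    rw [Nat.card_sum, hcardΦ] at h1
    have h2 : Nat.card {f : Fin n → F // f ≠ 0} = q ^ n - 1 := by
      rw [Nat.card_eq_fintype_card, Fintype.card_subtype_compl, Fintype.card_subtype_eq, Fintype.card_fun,
        Fintype.card_fin]
    omega
  push Not at hA
  have heig : ∀ c : Fˣ, ∃ v : Fin n → F, v ≠ 0 ∧ H *ᵥ v = (-(c : F)) • v := fun c => by
    obtain ⟨v, hv, hv0⟩ := Matrix.exists_mulVec_eq_zero_iff.mpr (hA c)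
    refine ⟨v, hv, ?_⟩
    rw [Matrix.add_mulVec, Matrix.smul_mulVec, Matrix.one_mulVec] at hv0
    rw [eq_neg_of_add_eq_zero_left hv0, neg_smul]
  let ev : (Fin n → F) →ₗ[F] (Fˣ → F) :=
    { toFun := fun f c => ∑ i : Fin n, f i * (-(c : F)) ^ (i : ℕ)
      map_add' := fun f f' => funext fun c => by simp [add_mul, Finset.sum_add_distrib]
      map_smul' := fun t f => funext fun c => by simp [mul_assoc, Finset.mul_sum] }
  have hk : Fintype.card Fˣ ≤ n := by
    have hsub : (Finset.univ : Finset Fˣ).image (fun c : Fˣ => -(c : F)) ⊆ H.charpoly.roots.toFinset := by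
      intro x hx
      obtain ⟨c, -, rfl⟩ := Finset.mem_image.mp hx
      rw [Multiset.mem_toFinset, mem_roots (Matrix.charpoly_monic H).ne_zero, Polynomial.IsRoot, Matrix.eval_charpoly,
        show Matrix.scalar (Fin n) (-(c : F)) - H = -(H + (c : F) • 1) by
          rw [Matrix.scalar_apply, ← Matrix.smul_one_eq_diagonal, neg_smul]; abel,
        Matrix.det_neg, hA c, mul_zero]
    have h1 := (Finset.card_le_card hsub).trans (Multiset.toFinset_card_le _)
    rw [Finset.card_image_of_injective _ (fun a b hab => Units.ext (neg_injective hab)), Finset.card_univ] at h1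
    have h2 := card_roots' H.charpoly
    rw [Matrix.charpoly_natDegree_eq_dim, Fintype.card_fin] at h2
    omega
  have hev : Function.Surjective ev := by
    intro w
    have hvs : Set.InjOn (fun c : Fˣ => -(c : F)) (Finset.univ : Finset Fˣ) :=
      fun a _ b _ hab => Units.ext (neg_injective hab)
    let P := Lagrange.interpolate Finset.univ (fun c : Fˣ => -(c : F)) w
    refine ⟨fun i => P.coeff i, funext fun c => ?_⟩
    have hPd : P.degree < n := (Lagrange.degree_interpolate_lt w hvs).trans_le (by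
      rw [Finset.card_univ]; exact_mod_cast hk)
    have h2 := Lagrange.eval_interpolate_at_node w hvs (Finset.mem_univ c)
    refine Eq.trans ?_ h2
    show ∑ i : Fin n, P.coeff i * (-(c : F)) ^ (i : ℕ) = P.eval (-(c : F))
    by_cases hP0 : P = 0
    · simp [hP0]
    · rw [eval_eq_sum_range' ((natDegree_lt_iff_degree_lt hP0).mpr hPd), ← Fin.sum_univ_eq_sum_range]
  let good : (Fˣ → F) → Prop := fun w => ∀ c, w c ≠ 0
  have hgood : ∀ p, good (ev (Φ p)) := by
    intro p c hc
    obtain ⟨v, hv, hvH⟩ := heig c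
    have hpow : ∀ i : ℕ, H ^ i *ᵥ v = (-(c : F)) ^ i • v := by
      intro i
      induction i with
      | zero => simp
      | succ i ih => rw [pow_succ, ← Matrix.mulVec_mulVec, hvH, Matrix.mulVec_smul, ih, smul_smul, pow_succ, mul_comm]
    have h1 : lc (Φ p) *ᵥ v = (ev (Φ p) c) • v := by
      show (∑ i : Fin n, Φ p i • H ^ (i : ℕ)) *ᵥ v = (∑ i : Fin n, Φ p i * (-(c : F)) ^ (i : ℕ)) • v
      rw [Matrix.sum_mulVec, Finset.sum_smul]
      exact Finset.sum_congr rfl fun i _ => by rw [Matrix.smul_mulVec, hpow, smul_smul]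
    rw [hc, zero_smul, hlcΦ, Matrix.smul_mulVec, hpow, smul_smul] at h1
    rcases smul_eq_zero.mp h1 with h2 | h2
    · exact mul_ne_zero p.1.ne_zero (pow_ne_zero _ (neg_ne_zero.mpr c.ne_zero)) h2
    · exact hv h2
  let Φ' : Fˣ × Fin N → {f : Fin n → F // good (ev f)} := fun p => ⟨Φ p, hgood p⟩
  have hΦ' : Function.Injective Φ' := fun p p' hpp => hΦ (congrArg Subtype.val hpp)
  have hle := Nat.card_le_card_of_injective Φ' hΦ'
  rw [hcardΦ] at hle
  have hT := card_linear_preimage ev hev good
  have hW : Nat.card (Fˣ → F) = q ^ (q - 1) := by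
    rw [Nat.card_fun, Nat.card_units, Nat.card_eq_fintype_card]
  have hV : Nat.card (Fin n → F) = q ^ n := by rw [Nat.card_fun, Nat.card_fin, Nat.card_eq_fintype_card]
  have hG : Nat.card {w : Fˣ → F // good w} = (q - 1) ^ (q - 1) := by
    rw [Nat.card_congr (Equiv.subtypePiEquivPi (p := fun (_ : Fˣ) (x : F) => x ≠ 0)), Nat.card_pi,
      Finset.prod_const, Finset.card_univ, Nat.card_congr unitsEquivNeZero.symm, Nat.card_units,
      Nat.card_eq_fintype_card, Fintype.card_units]
  rw [hW, hV, hG] at hT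
  set T := Nat.card {f : Fin n → F // good (ev f)}
  rcases Nat.lt_or_ge q 3 with hq3 | hq3
  · have hq2 : q = 2 := by omega
    rw [hq2] at hle hT ⊢
    norm_num at hle hT
    have hn4 : 4 ≤ n := by
      by_contra hc
      exact h32 ⟨by omega, hq2⟩
    have hpow : 2 ^ n = 2 * 2 ^ (n - 1) := by rw [← pow_succ', show n - 1 + 1 = n by omega]
    have h8 : 8 ≤ 2 ^ (n - 1) := (show 2 ^ 3 ≤ 2 ^ (n - 1) from Nat.pow_le_pow_right two_pos (by omega))
    have hstrict : N < 2 ^ (n - 1) := by
      by_contra hge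
      have hbij : Function.Bijective Φ' := (Nat.bijective_iff_injective_and_card Φ').mpr ⟨hΦ', by
        have hT' : T = 2 ^ (n - 1) := by omega
        rw [hcardΦ, hq2]; change (2 - 1) * N = T; omega⟩
      let f₀ : Fin n → F := fun i => if (i : ℕ) ≤ 2 then 1 else 0
      have h22 : (2 : F) = 0 := by
        have := FiniteField.cast_card_eq_zero F
        rw [← hqdef, hq2] at this
        exact_mod_cast this
      have hu1 : ∀ c : Fˣ, (c : F) = 1 := fun c => by
        haveI : Subsingleton Fˣ := Fintype.card_le_one_iff_subsingleton.mp (by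
          rw [Fintype.card_units, ← hqdef, hq2])
        rw [Subsingleton.elim c 1, Units.val_one]
      have hsum3 : ∀ (M : Type u) [AddCommGroup M] (w : ℕ → M),
          (∑ i : Fin n, if (i : ℕ) ≤ 2 then w i else 0) = w 0 + w 1 + w 2 := by
        intro M _ w
        rw [Fin.sum_univ_eq_sum_range (fun i => if i ≤ 2 then w i else 0) n, ← Finset.sum_filter,
          show (Finset.range n).filter (fun i => i ≤ 2) = Finset.range 3 by
            ext i; simp; omega]
        simp [Finset.sum_range_succ]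
      have hgood₀ : good (ev f₀) := by
        intro c
        show ∑ i : Fin n, (if (i : ℕ) ≤ 2 then (1 : F) else 0) * (-(c : F)) ^ (i : ℕ) ≠ 0
        simp only [ite_mul, one_mul, zero_mul]
        rw [hsum3 F (fun i => (-(c : F)) ^ i), hu1]
        intro h0
        exact one_ne_zero (α := F) (by linear_combination h0)
      obtain ⟨p, hp⟩ := hbij.2 ⟨f₀, hgood₀⟩
      have h1 := congrArg lc (congrArg Subtype.val hp : Φ p = f₀)
      rw [hlcΦ, hu1, one_smul] at h1
      have hlc₀ : lc f₀ = 1 + H + H ^ 2 := by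
        show ∑ i : Fin n, (if (i : ℕ) ≤ 2 then (1 : F) else 0) • H ^ (i : ℕ) = _
        simp only [ite_smul, one_smul, zero_smul]
        rw [hsum3 _ (fun i => H ^ i), pow_zero, pow_one]
      rw [hlc₀] at h1
      have hcom : Commute (tw σ g H) H := htwH.trans (mul_eq_one_comm.mp htwH).symm
      have h5 : tw σ g (1 + H + H ^ 2) * (1 + H + H ^ 2) = 1 := by
        rw [← h1, tw_pow, ← hcom.mul_pow, htwH, one_pow]
      have hHT : H * tw σ g H = 1 := mul_eq_one_comm.mp htwH
      have h6 : H ^ 2 * (tw σ g (1 + H + H ^ 2) * (1 + H + H ^ 2)) = H ^ 2 := by rw [h5, mul_one]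
      rw [tw_add, tw_add, htw1, tw_pow, ← mul_assoc] at h6
      have h8' : H ^ 2 * (1 + tw σ g H + tw σ g H ^ 2) = H * H + H + 1 := by
        rw [sq, sq, mul_add, mul_add, mul_one, mul_assoc H H (tw σ g H), hHT, mul_one,
          mul_assoc H H (tw σ g H * tw σ g H), ← mul_assoc H (tw σ g H) (tw σ g H), hHT, one_mul, hHT]
      rw [h8', sq] at h6
      have hfour : H ^ 4 = 1 := by
        have hneg : ∀ M : Matrix (Fin n) (Fin n) F, M + M = 0 := fun M => by
          rw [← two_smul F, h22, zero_smul]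
        have h7 : (H * H + H + 1) * (1 + H + H * H) =
            H ^ 4 + 1 + (H * H * H + H * H * H) + (H + H) + (H * H + H * H) + H * H := by
          simp only [add_mul, mul_add, one_mul, mul_one, mul_assoc, pow_succ, pow_zero]
          abel
        rw [h7, hneg, hneg, hneg, add_zero, add_zero, add_zero, add_eq_right] at h6
        rw [← sub_eq_zero, sub_eq_add_neg, show -(1 : Matrix (Fin n) (Fin n) F) = 1 from
          neg_eq_of_add_eq_zero_left (hneg 1)]
        exact h6
      have hN4 : N ≤ 4 := Nat.le_of_dvd (by norm_num) (orderOf_dvd_of_pow_eq_one (by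
        rw [← map_pow, show h ^ 4 = 1 from Units.ext (by rw [Units.val_pow_eq_pow_val, hfour]; rfl), map_one]))
      omega
    norm_num
    omega
  · obtain ⟨k, hk'⟩ : ∃ k, q - 1 = k + 2 := ⟨q - 3, by omega⟩
    have hb : 2 * (q - 1) ^ (q - 1) < q ^ (q - 1) := by
      have hber : ∀ m j : ℕ, m ^ (j + 2) + (j + 2) * m ^ (j + 1) + m ^ j ≤ (m + 1) ^ (j + 2) := by
        intro m j
        induction j with
        | zero => exact le_of_eq (by ring)
        | succ j ih =>
          have h1 := Nat.mul_le_mul_right (m + 1) ih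
          rw [← pow_succ] at h1
          refine le_trans ?_ h1
          have : m ^ (j + 1) ≤ (j + 3) * m ^ (j + 1) + m ^ j :=
            (Nat.le_mul_of_pos_left _ (by omega)).trans (Nat.le_add_right _ _)
          calc m ^ (j + 1 + 2) + (j + 1 + 2) * m ^ (j + 1 + 1) + m ^ (j + 1)
              ≤ m ^ (j + 1 + 2) + (j + 1 + 2) * m ^ (j + 1 + 1) + ((j + 3) * m ^ (j + 1) + m ^ j) := by
                omega
            _ = (m ^ (j + 2) + (j + 2) * m ^ (j + 1) + m ^ j) * (m + 1) := by ring
      have h2 := hber (k + 2) k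
      have hpos : 0 < (k + 2) ^ k := pow_pos (by omega) _
      rw [hk', show q = k + 2 + 1 by omega]
      have h3 : (k + 2) * (k + 2) ^ (k + 1) = (k + 2) ^ (k + 2) := by rw [← pow_succ']
      omega
    have h2T : 2 * T * q ^ (q - 1) < q ^ n * q ^ (q - 1) := by
      calc 2 * T * q ^ (q - 1) = q ^ n * (2 * (q - 1) ^ (q - 1)) := by rw [mul_assoc, hT]; ring
        _ < q ^ n * q ^ (q - 1) := Nat.mul_lt_mul_of_pos_left hb (pow_pos (by omega) _)
    have := lt_of_mul_lt_mul_right h2T (Nat.zero_le _)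
    omega

end Cfsg.Agent.AutPSLOrder
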