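import Mathlib
import Cfsg.Agent.AutPSLOrder.Bound
import Cfsg.Agent.AutPSL.Coset

/-!
The maximal element order of `Aut PSL_n(q)`.
-/

set_option autoImplicit false

namespace Cfsg.Agent.AutPSLOrder

open Matrix Cfsg.Agent.AutPSL Finset

universe u

theorem arith_base (e a : ℕ) (he : 2 ≤ e) (ha : 2 ≤ a) (hne : ¬ (e = 2 ∧ a = 2)) :
    e * (a + 1) ≤ a ^ e + 1 ∧ 8 ≤ a ^ e ∧ a ^ 2 ≤ a ^ e := by
  refine ⟨?_, ?_, Nat.pow_le_pow_right (by omega) he⟩
  · induction e, he using Nat.le_induction with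
    | base => nlinarith [show 3 ≤ a by omega]
    | succ j hj ih =>
      by_cases h : j = 2 ∧ a = 2
      · obtain ⟨rfl, rfl⟩ := h; norm_num
      · have := ih h
        have h2 : a ^ j * 2 ≤ a ^ (j + 1) := by rw [pow_succ]; exact Nat.mul_le_mul_left _ ha
        nlinarith
  · rcases (show a = 2 ∨ 3 ≤ a by omega) with rfl | h
    · exact le_trans (by norm_num) (Nat.pow_le_pow_right (show 0 < 2 by norm_num) (show 3 ≤ e by omega))
    · exact le_trans (le_trans (by norm_num) (Nat.pow_le_pow_left h 2)) (Nat.pow_le_pow_right (by omega) he)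

theorem sum_mono {Q a c : ℕ} (hQ : a ≤ Q) {m n : ℕ} (hmn : m ≤ n)
    (h0 : c * (∑ i ∈ range m, a ^ i) ≤ ∑ i ∈ range m, Q ^ i) (h1 : c * a ^ m ≤ Q ^ m) :
    c * (∑ i ∈ range n, a ^ i) ≤ ∑ i ∈ range n, Q ^ i := by
  suffices h : c * (∑ i ∈ range n, a ^ i) ≤ (∑ i ∈ range n, Q ^ i) ∧ c * a ^ n ≤ Q ^ n from h.1
  induction n, hmn using Nat.le_induction with
  | base => exact ⟨h0, h1⟩
  | succ j hj ih =>
    refine ⟨?_, ?_⟩
    · rw [sum_range_succ, sum_range_succ, mul_add]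
      exact add_le_add ih.1 ih.2
    · rw [pow_succ, pow_succ, ← mul_assoc]
      exact Nat.mul_le_mul ih.2 hQ

theorem arith_one (e a n : ℕ) (he : 2 ≤ e) (ha : 2 ≤ a) (hn : 2 ≤ n) (hne : ¬ (e = 2 ∧ a = 2 ∧ n = 2)) :
    e * (∑ i ∈ range n, a ^ i) ≤ ∑ i ∈ range n, (a ^ e) ^ i := by
  have hQ : a ≤ a ^ e := Nat.le_self_pow (by omega) a
  by_cases h : e = 2 ∧ a = 2
  · obtain ⟨rfl, rfl⟩ := h
    exact sum_mono hQ (show 3 ≤ n by omega) (by decide) (by decide)
  · obtain ⟨h1, -, -⟩ := arith_base e a he ha h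
    refine sum_mono hQ hn ?_ ?_
    · simp only [sum_range_succ, sum_range_zero, pow_zero, pow_one]
      nlinarith
    · have h2 : e * a ≤ a ^ e := by nlinarith
      calc e * a ^ 2 = (e * a) * a := by ring
        _ ≤ a ^ e * a ^ e := Nat.mul_le_mul h2 hQ
        _ = (a ^ e) ^ 2 := (sq _).symm

theorem arith_two (e a n : ℕ) (he : 2 ≤ e) (ha : 2 ≤ a) (hn : 3 ≤ n) (hne : ¬ (e = 2 ∧ a = 2)) :
    2 * e * (∑ i ∈ range n, a ^ i) ≤ ∑ i ∈ range n, (a ^ e) ^ i := by
  have hQ : a ≤ a ^ e := Nat.le_self_pow (by omega) a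
  obtain ⟨h1, h8, h2⟩ := arith_base e a he ha hne
  generalize a ^ e = Q at *
  have h5 : e * a ≤ Q := by nlinarith
  have h6 : 2 * e * a ^ 2 ≤ Q ^ 2 := by
    have := Nat.mul_le_mul h5 h5
    nlinarith
  refine sum_mono hQ hn ?_ ?_
  · simp only [sum_range_succ, sum_range_zero, pow_zero, pow_one]
    rcases (show a = 2 ∨ 3 ≤ a by omega) with rfl | h
    · have := Nat.mul_le_mul h8 h1
      nlinarith
    · have := Nat.mul_le_mul h2 h1
      have h3 : 3 * a ^ 2 ≤ a ^ 3 := by rw [pow_succ a 2, mul_comm]; exact Nat.mul_le_mul_left _ h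
      have h4 : 3 * a ≤ a ^ 2 := by rw [sq]; exact Nat.mul_le_mul_right _ h
      nlinarith
  · calc 2 * e * a ^ 3 = (2 * e * a ^ 2) * a := by ring
      _ ≤ Q ^ 2 * Q := Nat.mul_le_mul h6 hQ
      _ = Q ^ 3 := (pow_succ _ _).symm

theorem bound_of_sum {q a n c X : ℕ} (ha : 2 ≤ a) (hq : 1 ≤ q)
    (hX : (a - 1) * X ≤ c * (a ^ n - 1)) (h : c * (∑ i ∈ range n, a ^ i) ≤ ∑ i ∈ range n, q ^ i) :
    (q - 1) * X ≤ q ^ n - 1 := by
  rw [← geom_sum_mul_of_one_le (show 1 ≤ a by omega) n, ← mul_assoc, mul_comm _ (a - 1)] at hX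
  have hX' : X ≤ c * ∑ i ∈ range n, a ^ i := Nat.le_of_mul_le_mul_left hX (by omega)
  rw [← geom_sum_mul_of_one_le hq n, mul_comm _ (q - 1)]
  exact Nat.mul_le_mul_left _ (hX'.trans h)

variable {n : ℕ} {F : Type u} [Field F] [Fintype F]

theorem orderOf_le_mul_pow {G : Type*} [Group G] [Finite G] (x : G) {e : ℕ} (he : 0 < e) :
    orderOf x ≤ e * orderOf (x ^ e) :=
  Nat.le_of_dvd (Nat.mul_pos he (orderOf_pos _))
    (orderOf_dvd_of_pow_eq_one (by rw [pow_mul, pow_orderOf_eq_one]))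

theorem two_le_fixed (σ : F ≃+* F) : 2 ≤ Nat.card {x : F // σ x = x} :=
  Finite.one_lt_card_iff_nontrivial.mpr ⟨⟨⟨0, map_zero σ⟩, ⟨1, map_one σ⟩,
    fun h => zero_ne_one (congrArg Subtype.val h)⟩⟩

theorem orderOf_ringAut_pos (σ : F ≃+* F) : 0 < orderOf σ := by
  haveI : Finite (F ≃+* F) := Finite.of_injective (fun e : F ≃+* F => (e : F → F)) DFunLike.coe_injective
  exact orderOf_pos σ

theorem semi_order (hn : 2 ≤ n) {g : GL (Fin n) F} {σ : F ≃+* F}
    {β : MulAut (Matrix.ProjectiveSpecialLinearGroup (Fin n) F)} (hβ : IsSemi g σ β) :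
    (Nat.card {x : F // σ x = x} - 1) * orderOf β ≤
      orderOf σ * (Nat.card {x : F // σ x = x} ^ n - 1) := by
  have hpow := hβ.pow (orderOf σ)
  rw [pow_orderOf_eq_one] at hpow
  have hN := eq_pgl hpow
  have hrel : g * fieldMap σ (normGL σ g (orderOf σ)) * g⁻¹ = normGL σ g (orderOf σ) := by
    rw [normGL_fixed σ g (pow_orderOf_eq_one σ), mul_inv_cancel_right]
  have hb := semi_bound hn σ g _ hrel
  rw [← hN] at hb
  calc (Nat.card {x : F // σ x = x} - 1) * orderOf β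
      ≤ (Nat.card {x : F // σ x = x} - 1) * (orderOf σ * orderOf (β ^ orderOf σ)) :=
        Nat.mul_le_mul_left _ (orderOf_le_mul_pow β (orderOf_ringAut_pos σ))
    _ = orderOf σ * ((Nat.card {x : F // σ x = x} - 1) * orderOf (β ^ orderOf σ)) := by ring
    _ ≤ _ := Nat.mul_le_mul_left _ hb

theorem bound_semi (hn : 2 ≤ n) (h24 : ¬ (n = 2 ∧ Fintype.card F = 4)) {g : GL (Fin n) F} {σ : F ≃+* F}
    {β : MulAut (Matrix.ProjectiveSpecialLinearGroup (Fin n) F)} (hβ : IsSemi g σ β) :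
    (Fintype.card F - 1) * orderOf β ≤ Fintype.card F ^ n - 1 := by
  have h := semi_order hn hβ
  have hc : Nat.card {x : F // σ x = x} ^ orderOf σ = Fintype.card F :=
    (card_fixed_pow σ).trans Nat.card_eq_fintype_card
  have ha := two_le_fixed σ
  have he := orderOf_ringAut_pos σ
  generalize Nat.card {x : F // σ x = x} = a at *
  generalize orderOf σ = e at *
  rcases (show e = 1 ∨ 2 ≤ e by omega) with rfl | he2
  · rw [pow_one] at hc
    subst hc
    simpa using h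
  · refine bound_of_sum ha Fintype.card_pos h ?_
    rw [← hc]
    refine arith_one e a n he2 ha hn ?_
    rintro ⟨rfl, rfl, rfl⟩
    exact h24 ⟨rfl, by simpa using hc.symm⟩

theorem bound_graph (hn : 3 ≤ n) (h32 : ¬ (n = 3 ∧ Fintype.card F = 2)) {g : GL (Fin n) F} {σ : F ≃+* F}
    {β : MulAut (Matrix.ProjectiveSpecialLinearGroup (Fin n) F)} (hβ : IsSemi g σ β) :
    (Fintype.card F - 1) * orderOf (β * itAut n F) ≤ Fintype.card F ^ n - 1 := by
  have hsq : (β * itAut n F) ^ 2 = β * (itAut n F * β * itAut n F) := by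
    rw [sq]; simp only [mul_assoc]
  have hsemi : IsSemi (g * fieldMap σ (itGL g)) (σ * σ) (β * (itAut n F * β * itAut n F)) :=
    Induced.comp (normalises_psl _ σ) hβ hβ.it_conj
  have hle : orderOf (β * itAut n F) ≤ 2 * orderOf (β * (itAut n F * β * itAut n F)) := by
    rw [← hsq]; exact orderOf_le_mul_pow _ two_pos
  by_cases hτ : σ * σ = 1
  · set h := g * fieldMap σ (itGL g) with hh
    rw [hτ] at hsemi
    rw [eq_pgl hsemi] at hle
    have hrel : g * fieldMap σ (itGL h) * g⁻¹ = h := by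
      rw [hh, map_mul, itGL_fieldMap, itGL_itGL, map_mul, ← fieldMap_mul, hτ, fieldMap_one]
      group
    have hb := graph_bound hn h32 σ g h hrel
    calc (Fintype.card F - 1) * orderOf (β * itAut n F)
        ≤ (Fintype.card F - 1) * (2 * orderOf (pgl n F h)) := Nat.mul_le_mul_left _ hle
      _ = 2 * ((Fintype.card F - 1) * orderOf (pgl n F h)) := by ring
      _ ≤ _ := hb
  · have h := semi_order (by omega) hsemi
    have hc : Nat.card {x : F // (σ * σ) x = x} ^ orderOf (σ * σ) = Fintype.card F :=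
      (card_fixed_pow (σ * σ)).trans Nat.card_eq_fintype_card
    have ha := two_le_fixed (σ * σ)
    have he : 2 ≤ orderOf (σ * σ) := by
      have h0 := orderOf_ringAut_pos (σ * σ)
      have h1 : orderOf (σ * σ) ≠ 1 := fun h1 => hτ (orderOf_eq_one_iff.mp h1)
      omega
    have hex : ¬ (orderOf (σ * σ) = 2 ∧ Nat.card {x : F // (σ * σ) x = x} = 2) := by
      rintro ⟨h1, h2⟩
      rw [h1, h2] at hc
      have h3 : Nat.card {x : F // σ x = x} ^ orderOf σ = 4 := by
        rw [card_fixed_pow σ, Nat.card_eq_fintype_card, ← hc]; norm_num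
      have h4 : 2 ^ orderOf σ ≤ 4 := h3 ▸ Nat.pow_le_pow_left (two_le_fixed σ) _
      have h5 : orderOf σ ≤ 2 := (Nat.pow_le_pow_iff_right (le_refl 2)).mp (by simpa using h4)
      have h6 := orderOf_ringAut_pos σ
      apply hτ
      rw [← sq, ← orderOf_dvd_iff_pow_eq_one]
      interval_cases (orderOf σ) <;> norm_num
    generalize Nat.card {x : F // (σ * σ) x = x} = a at *
    generalize orderOf (σ * σ) = e at *
    refine bound_of_sum (c := 2 * e) ha Fintype.card_pos ?_ ?_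
    · calc (a - 1) * orderOf (β * itAut n F)
          ≤ (a - 1) * (2 * orderOf (β * (itAut n F * β * itAut n F))) := Nat.mul_le_mul_left _ hle
        _ = 2 * ((a - 1) * orderOf (β * (itAut n F * β * itAut n F))) := by ring
        _ ≤ 2 * (e * (a ^ n - 1)) := Nat.mul_le_mul_left _ h
        _ = 2 * e * (a ^ n - 1) := by ring
    · rw [← hc]; exact arith_two e a n he ha hn hex

theorem exists_singer (hn : 2 ≤ n) :
    ∃ x : GL (Fin n) F, Fintype.card F ^ n - 1 ≤ (Fintype.card F - 1) * orderOf (pgl n F x) := by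
  classical
  haveI : NeZero n := ⟨by omega⟩
  obtain ⟨p, hp⟩ := CharP.exists F
  haveI : Fact p.Prime := ⟨CharP.char_is_prime F p⟩
  let K := FiniteField.Extension F p n
  haveI : Fintype K := Fintype.ofFinite K
  let b : Module.Basis (Fin n) F K := Module.finBasisOfFinrankEq F K (FiniteField.finrank_extension F p n)
  obtain ⟨ζ, hζ⟩ := IsCyclic.exists_ofOrder_eq_natCard (α := Kˣ)
  let x : GL (Fin n) F := Units.map (Algebra.leftMulMatrix b).toRingHom.toMonoidHom ζ
  refine ⟨x, ?_⟩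
  set k := orderOf (pgl n F x) with hkdef
  have h1 : pgl n F (x ^ k) = 1 := by rw [map_pow, hkdef, pow_orderOf_eq_one]
  obtain ⟨c, hc⟩ := (pgl_eq_one_iff hn).mp h1
  have h2 : ζ ^ k = Units.map (algebraMap F K).toMonoidHom c := by
    apply Units.ext
    apply Algebra.leftMulMatrix_injective b
    have := congrArg (fun g : GL (Fin n) F => (g : Matrix (Fin n) (Fin n) F)) hc
    simp only [scalarGL_coe, Units.val_pow_eq_pow_val] at this
    show Algebra.leftMulMatrix b ((ζ ^ k : Kˣ) : K) = Algebra.leftMulMatrix b (algebraMap F K (c : F))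
    rw [Units.val_pow_eq_pow_val, map_pow, AlgHom.commutes, Algebra.algebraMap_eq_smul_one, ← this]
    rfl
  have h3 : ζ ^ (k * (Fintype.card F - 1)) = 1 := by
    rw [pow_mul, h2, ← map_pow, ← Fintype.card_units, pow_card_eq_one, map_one]
  have h4 : Nat.card Kˣ ∣ k * (Fintype.card F - 1) := hζ ▸ orderOf_dvd_of_pow_eq_one h3
  rw [Nat.card_units, FiniteField.natCard_extension, Nat.card_eq_fintype_card] at h4
  rw [mul_comm]
  refine Nat.le_of_dvd (Nat.mul_pos (orderOf_pos _) ?_) h4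
  have : 1 < Fintype.card F := Fintype.one_lt_card
  omega

theorem aut_order (d : ℕ) (hd : 2 ≤ d) (h24 : ¬ (d = 2 ∧ Fintype.card F = 4))
    (h32 : ¬ (d = 3 ∧ Fintype.card F = 2)) :
    (∀ φ : MulAut (Matrix.ProjectiveSpecialLinearGroup (Fin d) F),
      (Fintype.card F - 1) * orderOf φ ≤ Fintype.card F ^ d - 1) ∧
    (∃ φ : MulAut (Matrix.ProjectiveSpecialLinearGroup (Fin d) F),
      (Fintype.card F - 1) * orderOf φ = Fintype.card F ^ d - 1) := by
  refine ⟨fun φ => ?_, ?_⟩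
  · obtain ⟨g, σ, β, hβ, rfl | ⟨h3, rfl⟩⟩ := exists_semi hd φ
    · exact bound_semi hd h24 hβ
    · exact bound_graph h3 h32 hβ
  · obtain ⟨x, hx⟩ := exists_singer (F := F) hd
    exact ⟨pgl d F x, le_antisymm (bound_semi hd h24 (isSemi_pgl x)) hx⟩

end Cfsg.Agent.AutPSLOrder
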